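import Mathlib
import Groth.Prelude

set_option autoImplicit false
set_option linter.style.haveILetI false

universe u

open CategoryTheory

attribute [local instance] HasDerivedCategory.standard

namespace Groth.Agent.H8.KosDesc

section fg

variable {R : Type u} [CommRing R]

/-- a Koszul-regular ideal is finitely generated. -/
theorem fg_of_isKoszulRegularIdeal (J : Ideal R) (hJ : LCI.IsKoszulRegularIdeal J) : J.FG := by
  classical
  let t : Set R := {g | (J.map (algebraMap R (Localization.Away g))).FG}
  have ht : Ideal.span t = ⊤ := by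
    by_contra hne
    obtain ⟨𝔪, h𝔪, hle⟩ := Ideal.exists_le_maximal _ hne
    have htm : t ⊆ 𝔪 := fun g hg => hle (Ideal.subset_span hg)
    by_cases hJm : J ≤ 𝔪
    · obtain ⟨g, hg, l, _, hgen⟩ := hJ ⟨𝔪, h𝔪.isPrime⟩ hJm
      apply hg
      apply htm
      change (J.map (algebraMap R (Localization.Away g))).FG
      rw [hgen]
      refine ⟨l.toFinset, ?_⟩
      congr 1
      ext x
      simp
    · obtain ⟨b, hbJ, hbm⟩ := Set.not_subset.mp hJm
      apply hbm
      apply htm
      change (J.map (algebraMap R (Localization.Away b))).FG
      have : J.map (algebraMap R (Localization.Away b)) = ⊤ := by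
        apply Ideal.eq_top_of_isUnit_mem _ (Ideal.mem_map_of_mem _ hbJ)
        exact IsLocalization.map_units (Localization.Away b) (⟨b, 1, pow_one b⟩ : Submonoid.powers b)
      rw [this]
      exact ⟨{1}, by simp⟩
  exact Ideal.fg_of_localizationSpan t ht fun g => g.2

end fg

section descent

variable {A B : Type u} [CommRing A] [CommRing B] [Algebra A B] [Module.FaithfullyFlat A B]

/-- faithfully flat descent of finite generation of ideals. -/
theorem fg_of_faithfullyFlat (I : Ideal A) (h : (I.map (algebraMap A B)).FG) : I.FG := by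
  classical
  have h1 : (Submodule.span B ((algebraMap A B) '' (I : Set A))).FG := h
  obtain ⟨s', hs', hspan⟩ := (Submodule.fg_span_iff_fg_span_finset_subset _).mp h1
  obtain ⟨T, hT, rfl⟩ := Finset.subset_set_image_iff.mp hs'
  refine ⟨T, ?_⟩
  have h2 : (Ideal.span (T : Set A)).map (algebraMap A B) = I.map (algebraMap A B) := by
    rw [Ideal.map_span]
    change _ = Submodule.span B ((algebraMap A B) '' (I : Set A))
    rw [hspan, Finset.coe_image]
  rw [← Ideal.comap_map_eq_self_of_faithfullyFlat (B := B) (Ideal.span (T : Set A)), h2,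
    Ideal.comap_map_eq_self_of_faithfullyFlat]

theorem exists_fin_generators_of_faithfullyFlat (I : Ideal A)
    (h : LCI.IsKoszulRegularIdeal (I.map (algebraMap A B))) :
    ∃ (N : ℕ) (x : Fin N → A), Ideal.span (Set.range x) = I :=
  (Submodule.fg_iff_exists_fin_generating_family).mp
    (fg_of_faithfullyFlat I (fg_of_isKoszulRegularIdeal _ h))

end descent

end Groth.Agent.H8.KosDesc
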