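import Mathlib
import Groth.Prelude

set_option autoImplicit false
set_option linter.style.haveILetI false

universe u

namespace Groth.Agent.H8.KosDesc

open Matrix

section h1

variable {R : Type u} [CommRing R]

/-- coefficients of a relation among an `H_1`-regular family lie in the ideal it generates. -/
theorem coeff_mem_of_isH1Regular {c : ℕ} (f : Fin c → R) (hf : CAlgX.IsH1Regular f)
    (a : Fin c → R) (ha : ∑ i, a i * f i = 0) (i : Fin c) :
    a i ∈ Ideal.span (Set.range f) := by
  have h := hf a ha
  refine Submodule.span_induction (p := fun v _ => v i ∈ Ideal.span (Set.range f))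
    ?_ ?_ ?_ ?_ h
  · rintro v ⟨p, q, rfl⟩
    simp only [Pi.sub_apply]
    refine Ideal.sub_mem _ ?_ ?_
    · by_cases hp : i = p
      · subst hp
        rw [Pi.single_eq_same]
        exact Ideal.subset_span ⟨q, rfl⟩
      · rw [Pi.single_eq_of_ne hp]
        exact Ideal.zero_mem _
    · by_cases hq : i = q
      · subst hq
        rw [Pi.single_eq_same]
        exact Ideal.subset_span ⟨p, rfl⟩
      · rw [Pi.single_eq_of_ne hq]
        exact Ideal.zero_mem _
  · exact Ideal.zero_mem _
  · intro v w _ _ hv hw
    exact Ideal.add_mem _ hv hw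
  · intro r v _ hv
    exact Ideal.mul_mem_left _ r hv

end h1

section det

variable {R : Type u} [CommRing R]

/-- multilinear expansion of the determinant of a product of rectangular matrices
(one half of Cauchy–Binet). -/
theorem det_mul_rect {t N : ℕ} (b : Matrix (Fin t) (Fin N) R) (a : Matrix (Fin N) (Fin t) R) :
    (b * a).det = ∑ k : Fin t → Fin N, (∏ i, b i (k i)) * (a.submatrix k id).det := by
  have h1 : (b * a) = fun i => ∑ j, b i j • a j := by
    ext i i'
    simp [Matrix.mul_apply, Finset.sum_apply]
  have h2 : (b * a).det = Matrix.detRowAlternating (fun i => ∑ j, b i j • a j) := by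
    rw [← h1]; rfl
  rw [h2]
  have h3 := (Matrix.detRowAlternating (n := Fin t) (R := R)).toMultilinearMap.map_sum
    (fun (i : Fin t) (j : Fin N) => b i j • a j)
  rw [AlternatingMap.coe_multilinearMap] at h3
  rw [h3]
  refine Finset.sum_congr rfl fun k _ => ?_
  rw [AlternatingMap.map_smul_univ]
  rfl

end det

section sel

variable {S : Type u} [CommRing S] [IsLocalRing S]

/-- **selection lemma**: in a local ring, if the `H_1`-regular family `L` (in the maximal ideal)
and the family `y` generate the same ideal, then `t = |L|` of the `y`'s already generate it. -/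
theorem exists_selection {t N : ℕ} (L : Fin t → S)
    (hL : CAlgX.IsH1Regular L) (hLm : ∀ i, L i ∈ IsLocalRing.maximalIdeal S) (y : Fin N → S)
    (hy : Ideal.span (Set.range y) = Ideal.span (Set.range L)) :
    ∃ k : Fin t → Fin N, Function.Injective k ∧
      Ideal.span (Set.range (y ∘ k)) = Ideal.span (Set.range L) := by
  classical
  have ha : ∀ j, ∃ c : Fin t → S, ∑ i, c i * L i = y j := fun j =>
    (Ideal.mem_span_range_iff_exists_fun).mp (hy ▸ Ideal.subset_span ⟨j, rfl⟩)
  have hb : ∀ i, ∃ c : Fin N → S, ∑ j, c j * y j = L i := fun i =>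
    (Ideal.mem_span_range_iff_exists_fun).mp (hy.symm ▸ Ideal.subset_span ⟨i, rfl⟩)
  choose a ha using ha
  choose b hb using hb
  let Am : Matrix (Fin N) (Fin t) S := Matrix.of a
  let Bm : Matrix (Fin t) (Fin N) S := Matrix.of b
  have hLle : Ideal.span (Set.range L) ≤ IsLocalRing.maximalIdeal S := by
    rw [Ideal.span_le]
    rintro _ ⟨i, rfl⟩
    exact hLm i
  -- `Bm * Am ≡ 1` modulo the maximal ideal
  have hrel : ∀ i i', (Bm * Am) i i' - (1 : Matrix (Fin t) (Fin t) S) i i' ∈
      IsLocalRing.maximalIdeal S := by
    intro i i'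
    apply hLle
    refine coeff_mem_of_isH1Regular L hL
      (fun i' => (Bm * Am) i i' - (1 : Matrix (Fin t) (Fin t) S) i i') ?_ i'
    have h1 : ∑ i', (Bm * Am) i i' * L i' = L i := by
      simp only [Matrix.mul_apply, Finset.sum_mul]
      rw [Finset.sum_comm]
      rw [← hb i]
      refine Finset.sum_congr rfl fun j _ => ?_
      rw [← ha j, Finset.mul_sum]
      refine Finset.sum_congr rfl fun i' _ => ?_
      simp only [Am, Bm, Matrix.of_apply]
      ring
    have h2 : ∑ i', (1 : Matrix (Fin t) (Fin t) S) i i' * L i' = L i := by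
      simp [Matrix.one_apply]
    simp only [sub_mul, Finset.sum_sub_distrib, h1, h2, sub_self]
  have hdet : (Bm * Am).det ∉ IsLocalRing.maximalIdeal S := by
    intro hmem
    have h1 : IsLocalRing.residue S (Bm * Am).det = 0 :=
      (IsLocalRing.residue_eq_zero_iff _).mpr hmem
    rw [RingHom.map_det] at h1
    have h2 : (IsLocalRing.residue S).mapMatrix (Bm * Am) = 1 := by
      ext i i'
      simp only [RingHom.mapMatrix_apply, Matrix.map_apply]
      have := (IsLocalRing.residue_eq_zero_iff _).mpr (hrel i i')
      rw [map_sub, sub_eq_zero] at this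
      rw [this, Matrix.one_apply, Matrix.one_apply]
      split_ifs <;> simp
    rw [h2, Matrix.det_one] at h1
    exact one_ne_zero h1
  have hex : ∃ k : Fin t → Fin N, (Am.submatrix k id).det ∉ IsLocalRing.maximalIdeal S := by
    by_contra hcon
    push Not at hcon
    apply hdet
    rw [det_mul_rect]
    exact Ideal.sum_mem _ fun k _ => Ideal.mul_mem_left _ _ (hcon k)
  obtain ⟨k, hk⟩ := hex
  have hunit : IsUnit (Am.submatrix k id).det := by
    by_contra hnu
    exact hk ((IsLocalRing.mem_maximalIdeal _).mpr hnu)
  have hinj : Function.Injective k := by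
    intro i₁ i₂ h12
    by_contra hne
    apply hk
    rw [Matrix.det_zero_of_row_eq hne (by ext i'; simp [Matrix.submatrix_apply, h12])]
    exact Ideal.zero_mem _
  refine ⟨k, hinj, le_antisymm ?_ ?_⟩
  · rw [← hy]
    exact Ideal.span_mono (Set.range_comp_subset_range _ _)
  · rw [Ideal.span_le]
    rintro _ ⟨i, rfl⟩
    have hyk : (y ∘ k) = (Am.submatrix k id).mulVec L := by
      ext i
      simp only [Function.comp_apply, Matrix.mulVec, dotProduct, Matrix.submatrix_apply, id]
      exact (ha (k i)).symm
    have hLeq : L = ((Am.submatrix k id)⁻¹).mulVec (y ∘ k) := by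
      rw [hyk, Matrix.mulVec_mulVec, Matrix.nonsing_inv_mul _ hunit, Matrix.one_mulVec]
    have : L i = ∑ i', ((Am.submatrix k id)⁻¹) i i' * (y ∘ k) i' := by
      conv_lhs => rw [hLeq]
      rfl
    rw [SetLike.mem_coe, this]
    exact Ideal.sum_mem _ fun i' _ => Ideal.mul_mem_left _ _ (Ideal.subset_span ⟨i', rfl⟩)

end sel

end Groth.Agent.H8.KosDesc
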