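import Mathlib
import Groth.Prelude
import Groth.Agent.H4.KosBC
import Groth.Agent.Lib.Helper8.KosDesc.Sel

set_option autoImplicit false
set_option linter.style.haveILetI false

universe u

open CategoryTheory

attribute [local instance] HasDerivedCategory.standard

namespace Groth.Agent.H8.KosDesc

section atPrime

variable {R : Type u} [CommRing R]

/-- a Koszul-regular chart on a basic open `D(h)` gives one in the local ring at any prime of
`D(h)`. -/
theorem exists_atPrime_of_away (𝔯 : Ideal R) [𝔯.IsPrime] (h : R) (hh : h ∉ 𝔯)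
    (l : List (Localization.Away h)) (hl : LCI.IsKoszulRegularSeq (Localization.Away h) l)
    (K : Ideal R) (hK : K.map (algebraMap R (Localization.Away h)) = Ideal.ofList l) :
    ∃ L : List (Localization.AtPrime 𝔯), L.length = l.length ∧
      LCI.IsKoszulRegularSeq (Localization.AtPrime 𝔯) L ∧
      K.map (algebraMap R (Localization.AtPrime 𝔯)) = Ideal.ofList L := by
  have hunit : IsUnit (algebraMap R (Localization.AtPrime 𝔯) h) :=
    IsLocalization.map_units (Localization.AtPrime 𝔯) (⟨h, hh⟩ : 𝔯.primeCompl)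
  let φ : Localization.Away h →+* Localization.AtPrime 𝔯 := IsLocalization.Away.lift h hunit
  letI : Algebra (Localization.Away h) (Localization.AtPrime 𝔯) := φ.toAlgebra
  haveI : IsScalarTower R (Localization.Away h) (Localization.AtPrime 𝔯) :=
    IsScalarTower.of_algebraMap_eq fun a => (IsLocalization.Away.lift_eq h hunit a).symm
  haveI : IsLocalization (𝔯.primeCompl.map (algebraMap R (Localization.Away h)))
      (Localization.AtPrime 𝔯) :=
    IsLocalization.isLocalization_of_submonoid_le (Localization.Away h) (Localization.AtPrime 𝔯)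
      (Submonoid.powers h) 𝔯.primeCompl ((Submonoid.powers_le).mpr hh)
  haveI : Module.Flat (Localization.Away h) (Localization.AtPrime 𝔯) :=
    IsLocalization.flat (Localization.AtPrime 𝔯)
      (𝔯.primeCompl.map (algebraMap R (Localization.Away h)))
  refine ⟨l.map (algebraMap (Localization.Away h) (Localization.AtPrime 𝔯)), List.length_map _,
    Groth.Agent.H4.KosBC.isKoszulRegularSeq_map l hl, ?_⟩
  rw [IsScalarTower.algebraMap_eq R (Localization.Away h) (Localization.AtPrime 𝔯),
    ← Ideal.map_map, hK, Ideal.map_ofList]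

end atPrime

section transfer

variable {A B : Type u} [CommRing A] [CommRing B] [Algebra A B] [Module.Flat A B]

/-- **transfer**: if finitely many elements `x j` of `A` lie in `I₁ B_𝔮`, then a common
multiplier `u ∉ 𝔮 ∩ A` brings them into `I₁`. -/
theorem exists_mul_mem_of_atPrime (𝔮 : Ideal B) [𝔮.IsPrime] {N : ℕ} (x : Fin N → A)
    (I₁ : Ideal A)
    (hx : ∀ j, algebraMap A (Localization.AtPrime 𝔮) (x j) ∈
      I₁.map (algebraMap A (Localization.AtPrime 𝔮))) :
    ∃ u : A, u ∉ 𝔮.under A ∧ ∀ j, u * x j ∈ I₁ := by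
  classical
  set 𝔭 : Ideal A := 𝔮.under A with h𝔭
  letI := Localization.AtPrime.algebraOfLiesOver 𝔭 𝔮
  haveI : IsLocalHom (algebraMap (Localization.AtPrime 𝔭) (Localization.AtPrime 𝔮)) := by
    rw [RingHom.algebraMap_toAlgebra]
    exact Localization.isLocalHom_localRingHom 𝔭 𝔮 (algebraMap A B) Ideal.LiesOver.over
  haveI : Module.FaithfullyFlat (Localization.AtPrime 𝔭) (Localization.AtPrime 𝔮) :=
    Module.FaithfullyFlat.of_flat_of_isLocalHom
  have hmem : ∀ j, algebraMap A (Localization.AtPrime 𝔭) (x j) ∈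
      I₁.map (algebraMap A (Localization.AtPrime 𝔭)) := by
    intro j
    rw [← Ideal.comap_map_eq_self_of_faithfullyFlat (B := Localization.AtPrime 𝔮)
      (I₁.map (algebraMap A (Localization.AtPrime 𝔭))), Ideal.mem_comap, Ideal.map_map,
      ← IsScalarTower.algebraMap_eq, ← IsScalarTower.algebraMap_apply]
    exact hx j
  have hu : ∀ j, ∃ u : A, u ∉ 𝔭 ∧ u * x j ∈ I₁ := by
    intro j
    obtain ⟨⟨i, m⟩, him⟩ := (IsLocalization.mem_map_algebraMap_iff 𝔭.primeCompl
      (Localization.AtPrime 𝔭)).mp (hmem j)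
    rw [← map_mul] at him
    obtain ⟨c, hc⟩ := (IsLocalization.eq_iff_exists 𝔭.primeCompl (Localization.AtPrime 𝔭)).mp him
    refine ⟨c * m, 𝔭.primeCompl.mul_mem c.2 m.2, ?_⟩
    have : (c : A) * (m : A) * x j = c * (i : A) := by
      rw [← hc]; ring
    rw [this]
    exact Ideal.mul_mem_left _ _ i.2
  choose u hu1 hu2 using hu
  refine ⟨∏ j, u j, ?_, fun j => ?_⟩
  · intro hmem
    obtain ⟨j, _, hj⟩ := (Ideal.IsPrime.prod_mem_iff).mp hmem
    exact hu1 j hj
  · rw [← Finset.mul_prod_erase Finset.univ u (Finset.mem_univ j), mul_right_comm]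
    exact Ideal.mul_mem_right _ _ (hu2 j)

end transfer

end Groth.Agent.H8.KosDesc
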