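import Mathlib
import Groth.Prelude
import Groth.Agent.H4.KosBC
import Groth.Agent.H4.KosLow
import Groth.Agent.Lib.Helper8.KosDesc.Sel
import Groth.Agent.Lib.Helper8.KosDesc.Loc

set_option autoImplicit false
set_option linter.style.haveILetI false

universe u

open CategoryTheory

attribute [local instance] HasDerivedCategory.standard

namespace Groth.Agent.H8.KosDesc

section atPrime

variable {R : Type u} [CommRing R]

/-- explicit variant of `exists_atPrime_of_away` for a list coming from `R`. -/
theorem isKoszulRegularSeq_atPrime_of_away (𝔯 : Ideal R) [𝔯.IsPrime] (h : R) (hh : h ∉ 𝔯)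
    (F : List R) (hF : LCI.IsKoszulRegularSeq (Localization.Away h)
      (F.map (algebraMap R (Localization.Away h)))) :
    LCI.IsKoszulRegularSeq (Localization.AtPrime 𝔯)
      (F.map (algebraMap R (Localization.AtPrime 𝔯))) := by
  have hunit : IsUnit (algebraMap R (Localization.AtPrime 𝔯) h) :=
    IsLocalization.map_units (Localization.AtPrime 𝔯) (⟨h, hh⟩ : 𝔯.primeCompl)
  let φ : Localization.Away h →+* Localization.AtPrime 𝔯 := IsLocalization.Away.lift h hunit
  letI : Algebra (Localization.Away h) (Localization.AtPrime 𝔯) := φ.toAlgebra
  haveI : IsScalarTower R (Localization.Away h) (Localization.AtPrime 𝔯) :=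
    IsScalarTower.of_algebraMap_eq fun a => (IsLocalization.Away.lift_eq h hunit a).symm
  haveI : IsLocalization (𝔯.primeCompl.map (algebraMap R (Localization.Away h)))
      (Localization.AtPrime 𝔯) :=
    IsLocalization.isLocalization_of_submonoid_le (Localization.Away h) (Localization.AtPrime 𝔯)
      (Submonoid.powers h) 𝔯.primeCompl ((Submonoid.powers_le).mpr hh)
  haveI : Module.Flat (Localization.Away h) (Localization.AtPrime 𝔯) :=
    IsLocalization.flat (Localization.AtPrime 𝔯)
      (𝔯.primeCompl.map (algebraMap R (Localization.Away h)))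
  have := Groth.Agent.H4.KosBC.isKoszulRegularSeq_map
    (B := Localization.AtPrime 𝔯) _ hF
  rw [List.map_map] at this
  have hcomp : (algebraMap (Localization.Away h) (Localization.AtPrime 𝔯)) ∘
      (algebraMap R (Localization.Away h)) = algebraMap R (Localization.AtPrime 𝔯) := by
    ext a
    exact (IsScalarTower.algebraMap_apply R (Localization.Away h) (Localization.AtPrime 𝔯) a).symm
  rwa [hcomp] at this

end atPrime

section sel

variable {S : Type u} [CommRing S] [IsLocalRing S]

omit [IsLocalRing S] in
theorem range_get_eq (L : List S) : Set.range L.get = {x | x ∈ L} := by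
  ext x
  simp [List.mem_iff_get]

/-- list version of the selection lemma. -/
theorem exists_selection_list {N : ℕ} (L : List S) (hL : LCI.IsKoszulRegularSeq S L)
    (hLm : Ideal.ofList L ≤ IsLocalRing.maximalIdeal S) (y : Fin N → S)
    (hy : Ideal.span (Set.range y) = Ideal.ofList L) :
    ∃ k : Fin L.length → Fin N, Function.Injective k ∧
      Ideal.span (Set.range (y ∘ k)) = Ideal.ofList L := by
  have h1 : Ideal.ofList L = Ideal.span (Set.range L.get) := by
    rw [range_get_eq]
  have := exists_selection L.get
    (Groth.Agent.H4.KosLow.isH1Regular_of_isKoszulRegularSeq L hL)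
    (fun i => hLm (Ideal.subset_span (List.get_mem L i))) y (hy.trans h1)
  rwa [← h1] at this

end sel

end Groth.Agent.H8.KosDesc
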