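import Mathlib
import Groth.Prelude
import Groth.Agent.H4.KosBC
import Groth.Agent.Lib.Helper8.RGCI.KosLoc

set_option autoImplicit false
set_option linter.style.haveILetI false

universe u

open CategoryTheory CategoryTheory.Limits

attribute [local instance] HasDerivedCategory.standard

namespace Groth.Agent.H8.KosDesc

open DRing DerivedCategory Groth.Agent.H4.FB2 Groth.Agent.H4.KS1 Groth.Agent.H4.KosBC

/-- `l` is Koszul-regular on `D(r)`, in elementary (torsion) form: the Koszul cohomology of `l`
in nonzero degrees is `r`-power torsion. -/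
def TorsKR (R : Type u) [CommRing R] (l : List R) (r : R) : Prop :=
  ∀ i : ℤ, i ≠ 0 → ∀ m : ((Koszul.koszul R l).homology i : ModuleCat.{u} R),
    ∃ n : ℕ, r ^ n • m = 0

section basic

variable {R : Type u} [CommRing R]

/-- the comparison isomorphism of flat base change on Koszul cohomology. -/
theorem nonempty_extendScalars_homology_iso {R' : Type u} [CommRing R'] [Algebra R R']
    [Module.Flat R R'] (l : List R) (i : ℤ) :
    Nonempty ((ModuleCat.extendScalars.{u, u, u} (algebraMap R R')).obj
      ((Koszul.koszul R l).homology i) ≅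
        (Koszul.koszul R' (l.map (algebraMap R R'))).homology i) := by
  obtain ⟨e⟩ := nonempty_E_kos_iso (B := R') l
  exact ⟨(ModuleCat.extendScalars.{u, u, u} (algebraMap R R')).mapIso
      ((homologyFunctorFactors (ModuleCat.{u} R) i).app (Koszul.koszul R l)).symm ≪≫
    (homologyEIso (kos l) i).symm ≪≫
    (homologyFunctor (ModuleCat.{u} R') i).mapIso e ≪≫
    (homologyFunctorFactors (ModuleCat.{u} R') i).app
      (Koszul.koszul R' (l.map (algebraMap R R')))⟩

/-- Koszul-regularity on a model of the localization gives the torsion form. -/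
theorem torsKR_of_isKoszulRegularSeq (l : List R) (r : R) (R' : Type u) [CommRing R']
    [Algebra R R'] [IsLocalization.Away r R']
    (h : LCI.IsKoszulRegularSeq R' (l.map (algebraMap R R'))) : TorsKR R l r := by
  intro i hi m
  haveI : Module.Flat R R' := IsLocalization.flat R' (Submonoid.powers r)
  have hz := Groth.Agent.H8.RGCI.isZero_extendScalars_homology (B := R') l h i hi
  haveI : Subsingleton (TensorProduct R R' ((Koszul.koszul R l).homology i)) := by
    haveI := ModuleCat.subsingleton_of_isZero hz
    exact (Groth.Agent.H8.ExtBridge.extEquiv (A := R) (B := R')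
      ((Koszul.koszul R l).homology i)).symm.injective.subsingleton
  have h0 : TensorProduct.mk R R' ((Koszul.koszul R l).homology i) 1 m = 0 :=
    Subsingleton.elim _ _
  obtain ⟨⟨_, k, rfl⟩, hc⟩ := (IsLocalizedModule.eq_zero_iff (Submonoid.powers r)
    (TensorProduct.mk R R' ((Koszul.koszul R l).homology i) 1)).mp h0
  exact ⟨k, hc⟩

/-- the torsion form gives Koszul-regularity on any model of the localization. -/
theorem isKoszulRegularSeq_of_torsKR (l : List R) (r : R) (R' : Type u) [CommRing R']
    [Algebra R R'] [IsLocalization.Away r R'] (h : TorsKR R l r) :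
    LCI.IsKoszulRegularSeq R' (l.map (algebraMap R R')) := by
  intro i hi
  haveI : Module.Flat R R' := IsLocalization.flat R' (Submonoid.powers r)
  obtain ⟨e⟩ := nonempty_extendScalars_homology_iso (R' := R') l i
  refine IsZero.of_iso ?_ e.symm
  haveI : Subsingleton (TensorProduct R R' ((Koszul.koszul R l).homology i)) := by
    refine ⟨fun a b => ?_⟩
    suffices H : ∀ z : TensorProduct R R' ((Koszul.koszul R l).homology i), z = 0 by
      rw [H a, H b]
    intro z
    induction z using TensorProduct.induction_on with
    | zero => rfl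
    | tmul a m =>
      obtain ⟨n, hn⟩ := h i hi m
      have hu : IsUnit (algebraMap R R' (r ^ n)) :=
        IsLocalization.map_units R' (⟨r ^ n, n, rfl⟩ : Submonoid.powers r)
      obtain ⟨v, hv⟩ := hu
      have h1 : a = (r ^ n) • (a * ((v⁻¹ : R'ˣ) : R')) := by
        rw [Algebra.smul_def, ← hv, mul_comm a, ← mul_assoc, Units.mul_inv, one_mul]
      rw [h1, TensorProduct.smul_tmul, hn, TensorProduct.tmul_zero]
    | add x y hx hy => rw [hx, hy, add_zero]
  haveI : Subsingleton ((ModuleCat.extendScalars.{u, u, u} (algebraMap R R')).obj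
      ((Koszul.koszul R l).homology i)) :=
    (Groth.Agent.H8.ExtBridge.extEquiv (A := R) (B := R')
      ((Koszul.koszul R l).homology i)).injective.subsingleton
  exact ModuleCat.isZero_of_subsingleton _

/-- the torsion form is local: it passes to the radical of the ideal generated by good
elements. -/
theorem torsKR_of_mem_radical (l : List R) (s : Set R) (hs : ∀ r ∈ s, TorsKR R l r) (g : R)
    (hg : g ∈ (Ideal.span s).radical) : TorsKR R l g := by
  intro i hi m
  have hle : Ideal.span s ≤ (Ideal.torsionOf R _ m).radical := by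
    rw [Ideal.span_le]
    intro r hr
    obtain ⟨n, hn⟩ := hs r hr i hi m
    exact ⟨n, (Ideal.mem_torsionOf_iff m _).mpr hn⟩
  have h2 : g ∈ (Ideal.torsionOf R _ m).radical :=
    (Ideal.radical_mono hle) hg |> fun h => by rwa [Ideal.radical_idem] at h
  obtain ⟨n, hn⟩ := h2
  exact ⟨n, (Ideal.mem_torsionOf_iff m _).mp hn⟩

theorem torsKR_mul (l : List R) (r s : R) (h : TorsKR R l r) : TorsKR R l (r * s) := by
  intro i hi m
  obtain ⟨n, hn⟩ := h i hi m
  exact ⟨n, by rw [mul_pow, mul_comm, mul_smul, hn, smul_zero]⟩

end basic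

section descent

variable {A B : Type u} [CommRing A] [CommRing B] [Algebra A B] [Module.FaithfullyFlat A B]

/-- faithfully flat descent of the torsion form. -/
theorem torsKR_of_faithfullyFlat (l : List A) (g : A)
    (h : TorsKR B (l.map (algebraMap A B)) (algebraMap A B g)) : TorsKR A l g := by
  intro i hi m
  obtain ⟨e⟩ := nonempty_extendScalars_homology_iso (R' := B) l i
  let ε := Groth.Agent.H8.ExtBridge.extEquiv (A := A) (B := B) ((Koszul.koszul A l).homology i)
  let z := ε.symm ((1 : B) ⊗ₜ[A] m)
  obtain ⟨n, hn⟩ := h i hi (e.hom z)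
  have h1 : e.hom ((algebraMap A B g) ^ n • z) = 0 := by
    rw [map_smul]
    exact hn
  have h2 : (algebraMap A B g) ^ n • z = 0 := by
    have hinj : Function.Injective e.hom :=
      (ModuleCat.mono_iff_injective e.hom).mp inferInstance
    apply hinj
    rw [h1, map_zero]
  have h3 : (algebraMap A B g) ^ n • ((1 : B) ⊗ₜ[A] m) = 0 := by
    have := congrArg ε h2
    rwa [map_smul, map_zero, LinearEquiv.apply_symm_apply] at this
  have h4 : (1 : B) ⊗ₜ[A] (g ^ n • m) = 0 := by
    rw [← h3, TensorProduct.smul_tmul', smul_eq_mul, mul_one, ← TensorProduct.smul_tmul,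
      Algebra.smul_def, mul_one, map_pow]
  refine ⟨n, ?_⟩
  have hinj := Module.FaithfullyFlat.tensorProduct_mk_injective (A := A) (B := B)
    ((Koszul.koszul A l).homology i)
  apply hinj
  rw [map_zero]
  exact h4

end descent

end Groth.Agent.H8.KosDesc
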