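import Mathlib
import Groth.Prelude
import Groth.Agent.H4.KosBC
import Groth.Agent.Lib.Helper8.Kos.Indep
import Groth.Agent.Lib.Helper8.KosDesc.Tors
import Groth.Agent.Lib.Helper8.KosDesc.Loc2

set_option autoImplicit false
set_option linter.style.haveILetI false

universe u

open CategoryTheory

attribute [local instance] HasDerivedCategory.standard

namespace Groth.Agent.H8.KosDesc

section gen

variable {A C : Type u} [CommRing A] [CommRing C] [Algebra A C]

/-- if `u I ⊆ K ⊆ I` and `u` becomes a unit in `C` then `I C = K C`. -/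
theorem map_eq_map_of_isUnit (I K : Ideal A) (hKI : K ≤ I) (u : A)
    (hu : ∀ z ∈ I, u * z ∈ K) (hunit : IsUnit (algebraMap A C u)) :
    I.map (algebraMap A C) = K.map (algebraMap A C) := by
  refine le_antisymm ?_ (Ideal.map_mono hKI)
  rw [Ideal.map_le_iff_le_comap]
  intro z hz
  rw [Ideal.mem_comap]
  obtain ⟨w, hw⟩ := hunit
  have h1 : algebraMap A C z = ((w⁻¹ : Cˣ) : C) * algebraMap A C (u * z) := by
    rw [map_mul, ← hw, ← mul_assoc, Units.inv_mul, one_mul]
  rw [h1]
  exact Ideal.mul_mem_left _ _ (Ideal.mem_map_of_mem _ (hu z hz))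

theorem forall_mul_mem_of_generators {N : ℕ} (x : Fin N → A) (K : Ideal A) (u : A)
    (hu : ∀ j, u * x j ∈ K) : ∀ z ∈ Ideal.span (Set.range x), u * z ∈ K := by
  intro z hz
  refine Submodule.span_induction (p := fun z _ => u * z ∈ K) ?_ ?_ ?_ ?_ hz
  · rintro _ ⟨j, rfl⟩
    exact hu j
  · rw [mul_zero]; exact K.zero_mem
  · intro a b _ _ ha hb
    rw [mul_add]; exact K.add_mem ha hb
  · intro r a _ ha
    rw [smul_eq_mul, mul_left_comm]; exact K.mul_mem_left _ ha

end gen

section near

variable {B : Type u} [CommRing B]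

/-- **chart comparison**: if `J` is generated on `D(h)` by the Koszul-regular sequence `l`, and
the list `F ⊆ J` of the same length generates `J` on `D(v)`, then `F` is Koszul-regular on
`D(h v)` (in torsion form). -/
theorem torsKR_of_chart (J : Ideal B) (h : B) (l : List (Localization.Away h))
    (hl : LCI.IsKoszulRegularSeq (Localization.Away h) l)
    (hgen : J.map (algebraMap B (Localization.Away h)) = Ideal.ofList l)
    (F : List B) (hlen : F.length = l.length) (v : B) (hF : Ideal.ofList F ≤ J)
    (hv : ∀ z ∈ J, v * z ∈ Ideal.ofList F) : TorsKR B F (h * v) := by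
  let B₂ := Localization.Away (algebraMap B (Localization.Away h) v)
  haveI : Module.Flat (Localization.Away h) B₂ :=
    IsLocalization.flat B₂ (Submonoid.powers (algebraMap B (Localization.Away h) v))
  have hl₂ : LCI.IsKoszulRegularSeq B₂ (l.map (algebraMap (Localization.Away h) B₂)) :=
    Groth.Agent.H4.KosBC.isKoszulRegularSeq_map l hl
  have hunit : IsUnit (algebraMap B B₂ v) := by
    rw [IsScalarTower.algebraMap_apply B (Localization.Away h) B₂]
    exact IsLocalization.map_units B₂
      (⟨algebraMap B (Localization.Away h) v, 1, pow_one _⟩ :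
        Submonoid.powers (algebraMap B (Localization.Away h) v))
  have h1 : J.map (algebraMap B B₂) = (Ideal.ofList F).map (algebraMap B B₂) :=
    map_eq_map_of_isUnit J (Ideal.ofList F) hF v hv hunit
  have h2 : J.map (algebraMap B B₂) =
      Ideal.ofList (l.map (algebraMap (Localization.Away h) B₂)) := by
    rw [IsScalarTower.algebraMap_eq B (Localization.Away h) B₂, ← Ideal.map_map, hgen,
      Ideal.map_ofList]
  have h3 : Ideal.ofList (l.map (algebraMap (Localization.Away h) B₂)) =
      Ideal.ofList (F.map (algebraMap B B₂)) := by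
    rw [← h2, h1, Ideal.map_ofList]
  have hF₂ : LCI.IsKoszulRegularSeq B₂ (F.map (algebraMap B B₂)) :=
    Groth.Agent.H8.KosIndep.isKoszulRegularSeq_of_ofList_eq _ _
      (by rw [List.length_map, List.length_map, hlen]) h3 hl₂
  exact torsKR_of_isKoszulRegularSeq F (h * v) B₂ hF₂

/-- a list containing an element `a` is Koszul-regular on `D(a)`. -/
theorem torsKR_of_mem (F : List B) (a : B) (ha : a ∈ F) : TorsKR B F a := by
  apply torsKR_of_isKoszulRegularSeq F a (Localization.Away a)
  apply Groth.Agent.H8.RGCI.isKoszulRegularSeq_of_span_eq_top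
  have hmem : algebraMap B (Localization.Away a) a ∈
      Ideal.span {x | x ∈ F.map (algebraMap B (Localization.Away a))} :=
    Ideal.subset_span (List.mem_map_of_mem (f := algebraMap B (Localization.Away a)) ha)
  exact Ideal.eq_top_of_isUnit_mem _ hmem
    (IsLocalization.map_units (Localization.Away a) (⟨a, 1, pow_one a⟩ : Submonoid.powers a))

end near

end Groth.Agent.H8.KosDesc
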