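import Mathlib
import Groth.Prelude
import Groth.Agent.Lib.Helper8.KosDesc.Near
import Groth.Agent.Lib.Helper8.KosDesc.FG

set_option autoImplicit false
set_option linter.style.haveILetI false

universe u

open CategoryTheory

attribute [local instance] HasDerivedCategory.standard

namespace Groth.Agent.H8.KosDesc

section helpers

variable {A B : Type u} [CommRing A] [CommRing B] [Algebra A B]

theorem ofList_ofFn {t : ℕ} (f : Fin t → A) :
    Ideal.ofList (List.ofFn f) = Ideal.span (Set.range f) := by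
  change Ideal.span {x | x ∈ List.ofFn f} = _
  congr 1
  ext x
  simp [List.mem_ofFn]

theorem ofList_ofFn_map {t : ℕ} (f : Fin t → A) :
    Ideal.ofList ((List.ofFn f).map (algebraMap A B)) =
      (Ideal.span (Set.range f)).map (algebraMap A B) := by
  rw [← Ideal.map_ofList, ofList_ofFn]

theorem map_span_range {N : ℕ} (y : Fin N → A) :
    (Ideal.span (Set.range y)).map (algebraMap A B) =
      Ideal.span (Set.range (fun j => algebraMap A B (y j))) := by
  rw [Ideal.map_span, ← Set.range_comp]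
  rfl

theorem mul_mem_map_of_forall (I K : Ideal A) (u : A) (hu : ∀ z ∈ I, u * z ∈ K) :
    ∀ z ∈ I.map (algebraMap A B), algebraMap A B u * z ∈ K.map (algebraMap A B) := by
  intro z hz
  refine Submodule.span_induction
    (p := fun z _ => algebraMap A B u * z ∈ K.map (algebraMap A B)) ?_ ?_ ?_ ?_ hz
  · rintro _ ⟨a, ha, rfl⟩
    rw [← map_mul]
    exact Ideal.mem_map_of_mem _ (hu a ha)
  · rw [mul_zero]; exact Ideal.zero_mem _
  · intro a b _ _ ha hb
    rw [mul_add]; exact Ideal.add_mem _ ha hb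
  · intro r a _ ha
    rw [smul_eq_mul, mul_left_comm]; exact Ideal.mul_mem_left _ _ ha

theorem isUnit_algebraMap_atPrime (𝔮 : Ideal B) [𝔮.IsPrime] (u : A) (hu : u ∉ 𝔮.under A) :
    IsUnit (algebraMap A (Localization.AtPrime 𝔮) u) := by
  rw [IsScalarTower.algebraMap_apply A B (Localization.AtPrime 𝔮)]
  exact IsLocalization.map_units (Localization.AtPrime 𝔮)
    (⟨algebraMap A B u, hu⟩ : 𝔮.primeCompl)

theorem map_le_maximalIdeal (𝔮 : Ideal B) [𝔮.IsPrime] (K : Ideal B) (hK : K ≤ 𝔮) :
    K.map (algebraMap B (Localization.AtPrime 𝔮)) ≤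
      IsLocalRing.maximalIdeal (Localization.AtPrime 𝔮) := by
  rw [← Localization.AtPrime.map_eq_maximalIdeal]
  exact Ideal.map_mono hK

/-- counting/selection in the local ring of `B` at `𝔮`, for families coming from `A`. -/
theorem exists_selection_atPrime (𝔮 : Ideal B) [𝔮.IsPrime]
    (L : List (Localization.AtPrime 𝔮))
    (hL : LCI.IsKoszulRegularSeq (Localization.AtPrime 𝔮) L)
    (hLm : Ideal.ofList L ≤ IsLocalRing.maximalIdeal (Localization.AtPrime 𝔮))
    {N : ℕ} (y : Fin N → A)
    (hy : (Ideal.span (Set.range y)).map (algebraMap A (Localization.AtPrime 𝔮)) =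
      Ideal.ofList L) :
    ∃ k : Fin L.length → Fin N, Function.Injective k ∧
      (Ideal.span (Set.range (y ∘ k))).map (algebraMap A (Localization.AtPrime 𝔮)) =
        Ideal.ofList L := by
  rw [map_span_range] at hy
  obtain ⟨k, hk, hgen⟩ := exists_selection_list L hL hLm _ hy
  refine ⟨k, hk, ?_⟩
  rw [map_span_range]
  exact hgen

end helpers

section saturation

variable {A B : Type u} [CommRing A] [CommRing B] [Algebra A B] [Module.Flat A B]

/-- **saturation**: the locus where `f` is Koszul-regular is a union of fibres of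
`Spec B → Spec A` (over the open `D(u)` where `f` generates `I`). -/
theorem exists_torsKR_of_under_eq (I : Ideal A)
    (hJ : LCI.IsKoszulRegularIdeal (I.map (algebraMap A B)))
    {t : ℕ} (f : Fin t → A) (hf : ∀ i, f i ∈ I) (u : A)
    (hu : ∀ z ∈ I, u * z ∈ Ideal.span (Set.range f))
    (𝔮' 𝔮'' : PrimeSpectrum B) (hover : 𝔮'.asIdeal.under A = 𝔮''.asIdeal.under A)
    (hu' : u ∉ 𝔮'.asIdeal.under A)
    (r' : B) (hr' : r' ∉ 𝔮'.asIdeal)
    (hT : TorsKR B ((List.ofFn f).map (algebraMap A B)) r') :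
    ∃ r'' : B, r'' ∉ 𝔮''.asIdeal ∧ TorsKR B ((List.ofFn f).map (algebraMap A B)) r'' := by
  classical
  set F : List B := (List.ofFn f).map (algebraMap A B) with hFdef
  set J : Ideal B := I.map (algebraMap A B) with hJdef
  have hu'' : u ∉ 𝔮''.asIdeal.under A := hover ▸ hu'
  have hfI : Ideal.span (Set.range f) ≤ I := by
    rw [Ideal.span_le]
    rintro _ ⟨i, rfl⟩
    exact hf i
  have hFJ : Ideal.ofList F ≤ J := by
    rw [hFdef, ofList_ofFn_map]
    exact Ideal.map_mono hfI
  by_cases hI : I ≤ 𝔮''.asIdeal.under A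
  · -- the main case
    have hJ'' : J ≤ 𝔮''.asIdeal := Ideal.map_le_iff_le_comap.mpr hI
    have hI' : I ≤ 𝔮'.asIdeal.under A := hover ▸ hI
    have hJ' : J ≤ 𝔮'.asIdeal := Ideal.map_le_iff_le_comap.mpr hI'
    obtain ⟨h'', hh'', l'', hl'', hgen''⟩ := hJ 𝔮'' hJ''
    obtain ⟨L'', hlen'', hL'', hgenL''⟩ :=
      exists_atPrime_of_away 𝔮''.asIdeal h'' hh'' l'' hl'' J hgen''
    have hLm'' : Ideal.ofList L'' ≤ IsLocalRing.maximalIdeal (Localization.AtPrime 𝔮''.asIdeal) :=
      hgenL'' ▸ map_le_maximalIdeal 𝔮''.asIdeal J hJ''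
    -- `f` generates `J` in the local ring at `𝔮''`
    have hy'' : (Ideal.span (Set.range f)).map
        (algebraMap A (Localization.AtPrime 𝔮''.asIdeal)) = Ideal.ofList L'' := by
      rw [← hgenL'', hJdef, Ideal.map_map, ← IsScalarTower.algebraMap_eq]
      exact (map_eq_map_of_isUnit I _ hfI u hu
        (isUnit_algebraMap_atPrime 𝔮''.asIdeal u hu'')).symm
    obtain ⟨k'', hk''inj, hk''gen⟩ :=
      exists_selection_atPrime 𝔮''.asIdeal L'' hL'' hLm'' f hy''
    have hle1 : L''.length ≤ t := by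
      simpa using Fintype.card_le_of_injective k'' hk''inj
    -- transfer to `A`
    obtain ⟨u₂, hu₂, hu₂mem⟩ := exists_mul_mem_of_atPrime 𝔮''.asIdeal f
      (Ideal.span (Set.range (f ∘ k''))) (by
        intro j
        rw [hk''gen, ← hy'']
        exact Ideal.mem_map_of_mem _ (Ideal.subset_span ⟨j, rfl⟩))
    have hu₂' : u₂ ∉ 𝔮'.asIdeal.under A := hover ▸ hu₂
    -- at `𝔮'`
    have hKR' : LCI.IsKoszulRegularSeq (Localization.AtPrime 𝔮'.asIdeal)
        (F.map (algebraMap B (Localization.AtPrime 𝔮'.asIdeal))) :=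
      isKoszulRegularSeq_atPrime_of_away 𝔮'.asIdeal r' hr' F
        (isKoszulRegularSeq_of_torsKR F r' (Localization.Away r') hT)
    have hofL' : Ideal.ofList (F.map (algebraMap B (Localization.AtPrime 𝔮'.asIdeal))) =
        (Ideal.span (Set.range f)).map (algebraMap A (Localization.AtPrime 𝔮'.asIdeal)) := by
      rw [← Ideal.map_ofList, hFdef, ofList_ofFn_map, Ideal.map_map,
        ← IsScalarTower.algebraMap_eq]
    have hLm' : Ideal.ofList (F.map (algebraMap B (Localization.AtPrime 𝔮'.asIdeal))) ≤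
        IsLocalRing.maximalIdeal (Localization.AtPrime 𝔮'.asIdeal) := by
      rw [← Ideal.map_ofList]
      exact map_le_maximalIdeal 𝔮'.asIdeal _ (hFJ.trans hJ')
    have hy' : (Ideal.span (Set.range (f ∘ k''))).map
        (algebraMap A (Localization.AtPrime 𝔮'.asIdeal)) =
        Ideal.ofList (F.map (algebraMap B (Localization.AtPrime 𝔮'.asIdeal))) := by
      rw [hofL']
      exact (map_eq_map_of_isUnit (Ideal.span (Set.range f)) _
        (Ideal.span_mono (Set.range_comp_subset_range _ _)) u₂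
        (forall_mul_mem_of_generators f _ u₂ hu₂mem)
        (isUnit_algebraMap_atPrime 𝔮'.asIdeal u₂ hu₂')).symm
    obtain ⟨k', hk'inj, -⟩ :=
      exists_selection_atPrime 𝔮'.asIdeal _ hKR' hLm' (f ∘ k'') hy'
    have hle2 : t ≤ L''.length := by
      have := Fintype.card_le_of_injective k' hk'inj
      simpa [hFdef] using this
    have hlenF : F.length = l''.length := by
      rw [hFdef, List.length_map, List.length_ofFn, ← hlen'']
      exact le_antisymm hle2 hle1
    refine ⟨h'' * algebraMap A B u, ?_, ?_⟩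
    · intro hmem
      rcases (𝔮''.isPrime.mem_or_mem hmem) with h1 | h1
      · exact hh'' h1
      · exact hu'' h1
    · refine torsKR_of_chart J h'' l'' hl'' hgen'' F hlenF (algebraMap A B u) hFJ ?_
      rw [hFdef, ofList_ofFn_map]
      exact mul_mem_map_of_forall I _ u hu
  · -- some `f i` is a unit near `𝔮''`
    have hex : ∃ i, f i ∉ 𝔮''.asIdeal.under A := by
      by_contra hcon
      push Not at hcon
      apply hI
      intro z hz
      have h1 : u * z ∈ 𝔮''.asIdeal.under A := by
        have h2 : Ideal.span (Set.range f) ≤ 𝔮''.asIdeal.under A := by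
          rw [Ideal.span_le]
          rintro _ ⟨i, rfl⟩
          exact hcon i
        exact h2 (hu z hz)
      haveI : (𝔮''.asIdeal.under A).IsPrime := Ideal.IsPrime.under A 𝔮''.asIdeal
      rcases Ideal.IsPrime.mem_or_mem ‹_› h1 with h3 | h3
      · exact absurd h3 hu''
      · exact h3
    obtain ⟨i, hi⟩ := hex
    refine ⟨algebraMap A B (f i), hi, torsKR_of_mem F _ ?_⟩
    exact List.mem_map_of_mem (List.mem_ofFn.mpr ⟨i, rfl⟩)

end saturation

end Groth.Agent.H8.KosDesc
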