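import Mathlib
import Groth.Prelude
import Groth.Agent.Lib.Helper8.KosDesc.Sat

set_option autoImplicit false
set_option linter.style.haveILetI false

universe u

open CategoryTheory

attribute [local instance] HasDerivedCategory.standard

namespace Groth.Agent.H8.KosDesc

variable {A B : Type u} [CommRing A] [CommRing B] [Algebra A B] [Module.FaithfullyFlat A B]

/-- **faithfully flat descent of Koszul-regular ideals** -/
theorem isKoszulRegularIdeal_of_faithfullyFlat (I : Ideal A)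
    (h : LCI.IsKoszulRegularIdeal (I.map (algebraMap A B))) : LCI.IsKoszulRegularIdeal I := by
  classical
  obtain ⟨N, x, hx⟩ := exists_fin_generators_of_faithfullyFlat I h
  intro 𝔭 h𝔭
  obtain ⟨𝔮, h𝔮⟩ := PrimeSpectrum.comap_surjective_of_faithfullyFlat (A := A) (B := B) 𝔭
  have hunder : 𝔮.asIdeal.under A = 𝔭.asIdeal := congrArg PrimeSpectrum.asIdeal h𝔮
  set J : Ideal B := I.map (algebraMap A B) with hJdef
  have hI𝔮 : I ≤ 𝔮.asIdeal.under A := hunder.symm ▸ h𝔭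
  have hJ𝔮 : J ≤ 𝔮.asIdeal := Ideal.map_le_iff_le_comap.mpr hI𝔮
  obtain ⟨h₀, hh₀, l, hl, hgen⟩ := h 𝔮 hJ𝔮
  obtain ⟨L, hlen, hL, hgenL⟩ := exists_atPrime_of_away 𝔮.asIdeal h₀ hh₀ l hl J hgen
  have hLm : Ideal.ofList L ≤ IsLocalRing.maximalIdeal (Localization.AtPrime 𝔮.asIdeal) :=
    hgenL ▸ map_le_maximalIdeal 𝔮.asIdeal J hJ𝔮
  have hy : (Ideal.span (Set.range x)).map (algebraMap A (Localization.AtPrime 𝔮.asIdeal)) =
      Ideal.ofList L := by
    rw [hx, ← hgenL, hJdef, Ideal.map_map, ← IsScalarTower.algebraMap_eq]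
  obtain ⟨k, -, hkgen⟩ := exists_selection_atPrime 𝔮.asIdeal L hL hLm x hy
  set f : Fin L.length → A := x ∘ k with hfdef
  have hf : ∀ i, f i ∈ I := fun i => hx ▸ Ideal.subset_span ⟨k i, rfl⟩
  have hfI : Ideal.span (Set.range f) ≤ I := by
    rw [Ideal.span_le]
    rintro _ ⟨i, rfl⟩
    exact hf i
  obtain ⟨u, hu𝔮, humem⟩ := exists_mul_mem_of_atPrime 𝔮.asIdeal x (Ideal.span (Set.range f)) (by
    intro j
    rw [hkgen, ← hy]
    exact Ideal.mem_map_of_mem _ (Ideal.subset_span ⟨j, rfl⟩))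
  have hu𝔭 : u ∉ 𝔭.asIdeal := hunder ▸ hu𝔮
  have hu : ∀ z ∈ I, u * z ∈ Ideal.span (Set.range f) := by
    rw [← hx]
    exact forall_mul_mem_of_generators x _ u humem
  set F : List B := (List.ofFn f).map (algebraMap A B) with hFdef
  have hFJ : Ideal.ofList F ≤ J := by
    rw [hFdef, ofList_ofFn_map]
    exact Ideal.map_mono hfI
  have hT₀ : TorsKR B F (h₀ * algebraMap A B u) := by
    refine torsKR_of_chart J h₀ l hl hgen F ?_ (algebraMap A B u) hFJ ?_
    · rw [hFdef, List.length_map, List.length_ofFn, hlen]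
    · rw [hFdef, ofList_ofFn_map]
      exact mul_mem_map_of_forall I _ u hu
  -- the open set of good primes
  let Sg : Set B := {s | TorsKR B F s ∧ algebraMap A B u ∣ s}
  let U : Set (PrimeSpectrum B) := (PrimeSpectrum.zeroLocus Sg)ᶜ
  have hUopen : IsOpen U := (PrimeSpectrum.isClosed_zeroLocus Sg).isOpen_compl
  have hUmem : ∀ 𝔮' : PrimeSpectrum B, 𝔮' ∈ U ↔ ∃ s ∈ Sg, s ∉ 𝔮'.asIdeal := by
    intro 𝔮'
    simp only [U, Set.mem_compl_iff, PrimeSpectrum.mem_zeroLocus, Set.not_subset, SetLike.mem_coe]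
  let π : PrimeSpectrum B → PrimeSpectrum A := PrimeSpectrum.comap (algebraMap A B)
  have hsat : π ⁻¹' (π '' U) = U := by
    apply subset_antisymm _ (Set.subset_preimage_image _ _)
    rintro 𝔮'' ⟨𝔮', h𝔮'U, hπ⟩
    obtain ⟨s, ⟨hsT, hsdvd⟩, hs𝔮'⟩ := (hUmem 𝔮').mp h𝔮'U
    have hover : 𝔮'.asIdeal.under A = 𝔮''.asIdeal.under A := congrArg PrimeSpectrum.asIdeal hπ
    have hu' : u ∉ 𝔮'.asIdeal.under A := by
      intro hmem
      apply hs𝔮'
      obtain ⟨c, rfl⟩ := hsdvd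
      exact Ideal.mul_mem_right _ _ hmem
    have hu'' : u ∉ 𝔮''.asIdeal.under A := hover ▸ hu'
    obtain ⟨r'', hr'', hT''⟩ :=
      exists_torsKR_of_under_eq I h f hf u hu 𝔮' 𝔮'' hover hu' s hs𝔮' hsT
    rw [hUmem]
    refine ⟨r'' * algebraMap A B u, ⟨torsKR_mul F r'' _ hT'', dvd_mul_left _ _⟩, ?_⟩
    intro hmem
    rcases 𝔮''.isPrime.mem_or_mem hmem with h1 | h1
    · exact hr'' h1
    · exact hu'' h1
  have hquot : Topology.IsQuotientMap π :=
    PrimeSpectrum.isQuotientMap_of_generalizingMap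
      PrimeSpectrum.comap_surjective_of_faithfullyFlat
      (RingHom.Flat.generalizingMap_comap ((RingHom.flat_algebraMap_iff).mpr inferInstance))
  have hVopen : IsOpen (π '' U) := hquot.isOpen_preimage.mp (hsat.symm ▸ hUopen)
  have h𝔭V : 𝔭 ∈ π '' U := by
    refine ⟨𝔮, (hUmem 𝔮).mpr ⟨h₀ * algebraMap A B u, ⟨hT₀, dvd_mul_left _ _⟩, ?_⟩, h𝔮⟩
    intro hmem
    rcases 𝔮.isPrime.mem_or_mem hmem with h1 | h1
    · exact hh₀ h1
    · exact hu𝔮 h1
  obtain ⟨_, ⟨g, rfl⟩, hg𝔭, hgV⟩ :=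
    PrimeSpectrum.isTopologicalBasis_basic_opens.exists_subset_of_mem_open h𝔭V hVopen
  have hg𝔭' : g ∉ 𝔭.asIdeal := hg𝔭
  have hrad : algebraMap A B g ∈ (Ideal.span Sg).radical := by
    rw [Ideal.radical_eq_sInf, Ideal.mem_sInf]
    rintro P ⟨hPle, hPprime⟩
    by_contra hgP
    let 𝔮' : PrimeSpectrum B := ⟨P, hPprime⟩
    have h1 : π 𝔮' ∈ π '' U := hgV (show g ∉ (π 𝔮').asIdeal from hgP)
    have h𝔮'U : 𝔮' ∈ U := by
      rw [← hsat]
      exact h1
    obtain ⟨s, hs, hsP⟩ := (hUmem 𝔮').mp h𝔮'U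
    exact hsP (hPle (Ideal.subset_span hs))
  have hTB : TorsKR B F (algebraMap A B g) :=
    torsKR_of_mem_radical F Sg (fun r hr => hr.1) _ hrad
  have hTA : TorsKR A (List.ofFn f) g := torsKR_of_faithfullyFlat (List.ofFn f) g hTB
  have hTA' : TorsKR A (List.ofFn f) (g * u) := torsKR_mul _ _ _ hTA
  refine ⟨g * u, ?_, (List.ofFn f).map (algebraMap A (Localization.Away (g * u))),
    isKoszulRegularSeq_of_torsKR _ _ _ hTA', ?_⟩
  · intro hmem
    rcases 𝔭.isPrime.mem_or_mem hmem with h1 | h1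
    · exact hg𝔭' h1
    · exact hu𝔭 h1
  · change _ = Ideal.ofList _
    rw [ofList_ofFn_map]
    refine map_eq_map_of_isUnit I _ hfI u hu ?_
    have h1 : IsUnit (algebraMap A (Localization.Away (g * u)) (g * u)) :=
      IsLocalization.map_units (Localization.Away (g * u))
        (⟨g * u, 1, pow_one _⟩ : Submonoid.powers (g * u))
    rw [map_mul] at h1
    exact isUnit_of_mul_isUnit_right h1

end Groth.Agent.H8.KosDesc
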