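import Mathlib
import Groth.Prelude
import Groth.Agent.Lib.Helper8.KosDesc.Sat

set_option autoImplicit false
set_option linter.style.haveILetI false

universe u

open CategoryTheory

attribute [local instance] HasDerivedCategory.standard

namespace Groth.Agent.H8.KosDesc

variable {R : Type u} [CommRing R]

/-- a Koszul-regular sequence generating a proper ideal has minimal length among generating
sequences. -/
theorem length_le_of_isKoszulRegularSeq {I : Ideal R} (hI : I ≠ ⊤) (f : List R)
    (hf : LCI.IsKoszulRegularSeq R f) (hfI : Ideal.ofList f = I)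
    (h : List R) (hhI : Ideal.ofList h = I) : f.length ≤ h.length := by
  obtain ⟨𝔪, h𝔪, hle⟩ := Ideal.exists_le_maximal I hI
  haveI := h𝔪.isPrime
  haveI : Module.Flat R (Localization.AtPrime 𝔪) := IsLocalization.flat _ 𝔪.primeCompl
  have hKR : LCI.IsKoszulRegularSeq (Localization.AtPrime 𝔪)
      (f.map (algebraMap R (Localization.AtPrime 𝔪))) :=
    Groth.Agent.H4.KosBC.isKoszulRegularSeq_map f hf
  have hLm : Ideal.ofList (f.map (algebraMap R (Localization.AtPrime 𝔪))) ≤
      IsLocalRing.maximalIdeal (Localization.AtPrime 𝔪) := by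
    rw [← Ideal.map_ofList, hfI]
    exact map_le_maximalIdeal 𝔪 I hle
  have hy : Ideal.span (Set.range (fun j : Fin h.length =>
      algebraMap R (Localization.AtPrime 𝔪) (h.get j))) =
      Ideal.ofList (f.map (algebraMap R (Localization.AtPrime 𝔪))) := by
    rw [← Ideal.map_ofList, hfI, ← hhI, ← map_span_range (A := R), range_get_eq]
  obtain ⟨k, hk, -⟩ := exists_selection_list _ hKR hLm _ hy
  have := Fintype.card_le_of_injective k hk
  simpa using this

/-- characterisation of Koszul-regular generating sequences by minimal length. -/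
theorem isKoszulRegularSeq_iff_length_le {I : Ideal R} (hI : I ≠ ⊤)
    (g : List R) (hg : LCI.IsKoszulRegularSeq R g) (hgI : Ideal.ofList g = I)
    (f : List R) (hfI : Ideal.ofList f = I) :
    LCI.IsKoszulRegularSeq R f ↔ ∀ h : List R, Ideal.ofList h = I → f.length ≤ h.length := by
  constructor
  · intro hf h hhI
    exact length_le_of_isKoszulRegularSeq hI f hf hfI h hhI
  · intro hmin
    have h1 : f.length ≤ g.length := hmin g hgI
    have h2 : g.length ≤ f.length := length_le_of_isKoszulRegularSeq hI g hg hgI f hfI
    exact Groth.Agent.H8.KosIndep.isKoszulRegularSeq_of_ofList_eq g f (le_antisymm h2 h1)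
      (hgI.trans hfI.symm) hg

end Groth.Agent.H8.KosDesc
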